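import Groth.Prelude.Def_AlgSpSub
import Groth.Agent.H50.RedInduced
import Groth.Agent.H50.FieldPts
import Groth.Agent.H50.LimOpen
import Groth.Agent.H51.SpEtMono
import Groth.Agent.H51.SpOpen
import Groth.Agent.H53.ElemDist
import Groth.Agent.H53.Points
import Groth.Agent.H53.LocalST

/-!
# A field-point criterion for elementary distinguished squares

`(U ⊂ W, f : V → W)` is an elementary distinguished square as soon as `f` is etale, every point of
`W` outside `U` is in the image of `f`, and `f` is injective on field-valued points lying outside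
`U`.
-/

set_option autoImplicit false
universe u
open CategoryTheory CategoryTheory.Limits AlgebraicGeometry Opposite
open AlgSp

namespace Groth.Agent.H53.Induct

variable {S : Scheme.{u}}

/-- `f` is injective on field-valued points whose image point lies outside `O`. -/
def FieldInjOff {V W : Sp S} (f : V ⟶ W) (O : Set (Points W)) : Prop :=
  ∀ (K : Type u) [Field K] (str : Spec (.of K) ⟶ S) (a b : (yon S).obj (Over.mk str) ⟶ V),
    a ≫ f = b ≫ f → Points.mk (fieldPtOfHom K str (a ≫ f)) ∉ O → a = b

theorem isOpen_range_of_isOpenImmersion {F G : Sp S} (j : F ⟶ G) (hj : RepWith @IsOpenImmersion j) :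
    IsOpen (Set.range (Points.map j)) :=
  (Groth.Agent.H50.isOpenMap_points_map_of_isOpenImmersion j hj).isOpen_range

/-- The field-point criterion. -/
theorem isElemDistSq_of_fieldInjOff {U V W : Sp S} (hV : IsAlgSpace V) (hW : IsAlgSpace W)
    (j : U ⟶ W) (f : V ⟶ W) (hj : RepWith @IsOpenImmersion j) (hf : IsEtaleMor f)
    (hsurj : (Set.range (Points.map j))ᶜ ⊆ Set.range (Points.map f))
    (hinj : FieldInjOff f (Set.range (Points.map j))) : IsElemDistSq j f := by
  have hopen := isOpen_range_of_isOpenImmersion j hj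
  obtain ⟨T, i, hT, hi⟩ := Groth.Agent.H50.exists_isRedInduced hW _ hopen.isClosed_compl
  have sq := IsPullback.of_hasPullback i f
  have hP : IsAlgSpace (pullback i f) :=
    Groth.Agent.H49.isAlgSpace_of_isPullback sq hW.diag hT hV
  have het : IsEtaleMor (pullback.fst i f) :=
    isEtaleMor_of_isPullback hV hW hT sq.flip hf
  have hui : IsUnivInjectiveMor (pullback.fst i f) := by
    apply Groth.Agent.H50.isUnivInjectiveMor_of_field_injective
    intro K _ str a b hab
    have hab : a ≫ pullback.fst i f = b ≫ pullback.fst i f := hab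
    have h1 : (a ≫ pullback.snd i f) ≫ f = (b ≫ pullback.snd i f) ≫ f := by
      rw [Category.assoc, Category.assoc, ← sq.w, ← Category.assoc, ← Category.assoc, hab]
    have h2 : Points.mk (fieldPtOfHom K str ((a ≫ pullback.snd i f) ≫ f)) ∉
        Set.range (Points.map j) := by
      have : Points.mk (fieldPtOfHom K str ((a ≫ pullback.snd i f) ≫ f)) ∈
          Set.range (Points.map i) := by
        refine ⟨Points.mk (fieldPtOfHom K str (a ≫ pullback.fst i f)), ?_⟩
        rw [Points.map_mk, fieldPtOfHom_map, Category.assoc, sq.w, Category.assoc]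
      rw [hi.2.1] at this
      exact this
    have h3 := hinj K str _ _ h1 h2
    exact sq.hom_ext hab h3
  have hoi : RepWith @IsOpenImmersion (pullback.fst i f) :=
    Groth.Agent.H51.s10261 (X := ⟨pullback i f, hP⟩) (Y := ⟨T, hT⟩)
      (ObjectProperty.homMk (pullback.fst i f)) het hui
  have hsj : Function.Surjective (Points.map (pullback.fst i f)) := by
    intro t
    have ht : Points.map i t ∈ (Set.range (Points.map j))ᶜ := by
      rw [← hi.2.1]; exact ⟨t, rfl⟩
    obtain ⟨v, hv⟩ := hsurj ht
    obtain ⟨z, hz, -⟩ := exists_point_of_isPullback sq t v hv.symm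
    exact ⟨z, hz⟩
  have hiso : IsIso (pullback.fst i f) :=
    Groth.Agent.H51.isIso_of_isOpenImmersion_of_surjective _ hoi hsj
  exact ⟨hj, hf, T, pullback i f, i, pullback.fst i f, pullback.snd i f, hi, sq, hiso⟩

/-- Conversely, in an elementary distinguished square `f` is injective on field-valued points
outside `U`. -/
theorem fieldInjOff_of_isElemDistSq {U V W : Sp S} {j : U ⟶ W} {f : V ⟶ W}
    (hsq : IsElemDistSq j f) : FieldInjOff f (Set.range (Points.map j)) := by
  obtain ⟨-, -, T, P, i, p₁, p₂, hred, hsqT, hiso⟩ := hsq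
  intro K _ str a b hab hout
  have hmem : Points.mk (fieldPtOfHom K str (a ≫ f)) ∈ Set.range (Points.map i) := by
    rw [hred.2.1]; exact hout
  obtain ⟨τ', hτ'⟩ : ∃ τ' : (yon S).obj (Over.mk str) ⟶ T, τ' ≫ i = a ≫ f := by
    obtain ⟨τ, hτ⟩ := exists_factor_of_mem_range i hred.1 (fieldPtOfHom K str (a ≫ f)) hmem
    rw [fieldPtOfHom_toHom] at hτ
    exact ⟨τ, hτ⟩
  have : IsIso p₁ := hiso
  have e1 : hsqT.lift τ' a hτ' ≫ p₁ = hsqT.lift τ' b (hτ'.trans hab) ≫ p₁ := by
    rw [hsqT.lift_fst, hsqT.lift_fst]
  have e2 : hsqT.lift τ' a hτ' = hsqT.lift τ' b (hτ'.trans hab) := (cancel_mono p₁).1 e1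
  have := congrArg (· ≫ p₂) e2
  simpa using this

end Groth.Agent.H53.Induct
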