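import Groth.Agent.H53.Induct.Opens
import Groth.Agent.H50.ImmFactor

set_option autoImplicit false
universe u
open CategoryTheory CategoryTheory.Limits AlgebraicGeometry Opposite
open AlgSp

namespace Groth.Agent.H53.Induct

variable {S : Scheme.{u}}

/-- An open subspace with quasi-compact image is quasi-compact. -/
theorem isQuasiCompactSp_of_isCompact_range {W X : Sp S} (hW : IsAlgSpace W) (j : W ⟶ X)
    (hj : RepWith @IsOpenImmersion j) (hc : IsCompact (Set.range (Points.map j))) :
    IsQuasiCompactSp W := by
  have hjm : Mono j := mono_of_isOpenImmersion j hj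
  rw [Groth.Agent.H51.isQuasiCompactSp_iff hW]
  have hemb : Topology.IsOpenEmbedding (Points.map j) :=
    .of_continuous_injective_isOpenMap (Points.continuous_map _)
      (Groth.Agent.H51.injective_map_of_mono _)
      (Groth.Agent.H50.isOpenMap_points_map_of_isOpenImmersion _ hj)
  constructor
  rw [hemb.isEmbedding.isCompact_iff, Set.image_univ]
  exact hc

/-- The image of a quasi-compact algebraic space is quasi-compact. -/
theorem isCompact_range_of_isQuasiCompactSp {W X : Sp S} (hW : IsAlgSpace W) (j : W ⟶ X)
    (hc : IsQuasiCompactSp W) : IsCompact (Set.range (Points.map j)) := by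
  have := (Groth.Agent.H51.isQuasiCompactSp_iff hW).1 hc
  exact isCompact_range (Points.continuous_map j)

theorem isCompact_range_yon {X : Sp S} {T : Over S} [CompactSpace ↥T.left]
    (φ : (yon S).obj T ⟶ X) : IsCompact (Set.range (Points.map φ)) := by
  rw [range_map_eq_range_ofPt]
  exact isCompact_range (Points.continuous_ofPt φ)

end Groth.Agent.H53.Induct
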