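import Groth.Agent.H53.Induct.Opens
import Groth.Agent.H53.Induct.QC
import Groth.Agent.H53.ZMT.CoprodChart
import Groth.Agent.H51.SpNoeth

/-!
# Enlarging an open subspace by an affine etale chart: preliminaries
-/

set_option autoImplicit false
universe u
open CategoryTheory CategoryTheory.Limits AlgebraicGeometry Opposite
open AlgSp

namespace Groth.Agent.H53.Induct

variable {S : Scheme.{u}}

/-- Finitely many affine etale charts of an algebraic space assemble into one affine etale chart,
with open immersions as injections. -/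
theorem exists_coprod_chart_oi {ι : Type u} [Finite ι] {F : Sp S} (hF : IsAlgSpace F)
    (W : ι → Over S) (hW : ∀ i, IsAffine (W i).left) (m : ∀ i, (yon S).obj (W i) ⟶ F)
    (hm : ∀ i, RepWith @Etale (m i)) :
    ∃ (V : Over S) (inj : ∀ i, W i ⟶ V) (mm : (yon S).obj V ⟶ F), IsAffine V.left ∧
      RepWith @Etale mm ∧ (∀ i, (yon S).map (inj i) ≫ mm = m i) ∧
      (∀ v : V.left, ∃ (i : ι) (w : (W i).left), (inj i).left w = v) ∧
      ∀ i, IsOpenImmersion (inj i).left := by
  let dW : Cofan W := colimit.cocone (Discrete.functor W)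
  have hdW : IsColimit dW := colimit.isColimit _
  obtain ⟨hY⟩ := Groth.Agent.H49.nonempty_isColimit_yon_mapCocone hdW
  obtain ⟨e, he⟩ := Groth.Agent.H49.exists_sigma_iso hdW
  have hWi : ∀ i, IsAffine (W i).left := hW
  have hAff : IsAffine dW.pt.left := IsAffine.of_isIso e.inv
  let c₁ : Cocone (Discrete.functor W ⋙ yon S) :=
    { pt := F
      ι := Discrete.natTrans (fun i => m i.as) }
  let mm : (yon S).obj dW.pt ⟶ F := hY.desc c₁
  have hmm : ∀ i, (yon S).map (dW.inj i) ≫ mm = m i := fun i => hY.fac c₁ ⟨i⟩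
  have hinj : ∀ v : dW.pt.left, ∃ (i : ι) (w : (W i).left), (dW.inj i).left w = v :=
    Groth.Agent.H49.exists_inj_left_eq hdW
  have hoi : ∀ i, IsOpenImmersion (dW.inj i).left :=
    Groth.Agent.H49.isOpenImmersion_inj_left hdW
  refine ⟨dW.pt, dW.inj, mm, hAff, ?_, hmm, hinj, hoi⟩
  have hinst := Groth.Agent.H53.isLocalAtSource_etale_etale.{u}
  have hcov : IsCover (LocP @Etale) (fun i => (yon S).obj (W i))
      (fun i => (yon S).map (dW.inj i)) := by
    refine ⟨fun i => ?_, fun x => ?_⟩
    · have := hoi i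
      exact Groth.Agent.H50.locP_of_repWith @Etale le_rfl _
        ((repWith_yon_map_iff _ _).2 (inferInstance : Etale (dW.inj i).left))
    · obtain ⟨v, rfl⟩ := (Points.schemeEquiv dW.pt).surjective x
      obtain ⟨i, w, hw⟩ := hinj v
      refine ⟨i, Points.schemeEquiv (W i) w, ?_⟩
      rw [← hw]
      exact Points.map_yon_map_apply (dW.inj i) w
  have hloc : LocP @Etale mm :=
    (Groth.Agent.H53.isLocalOnSource_locP_of_precoverage @Etale @Etale le_rfl
      (fun i => (yon S).obj (W i)) (fun i => (yon S).map (dW.inj i)) (IsAlgSpace.yon_obj _)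
      (fun i => IsAlgSpace.yon_obj _) hcov mm hF).2 (fun i => by
        rw [hmm]
        exact Groth.Agent.H50.locP_of_repWith @Etale le_rfl _ (hm i))
  have hc : Representable mm := hF.representable_from_yon _
  obtain ⟨B, b, hb, hbs⟩ := hF.atlas
  refine Groth.Agent.H51.repWith_of_atlas @Etale hc b hb hbs ?_
  have h1 : RepWith @Etale (hc.fst b) := Groth.Agent.H51.repWith_fst hc b hb
  exact hloc (hc.fst b) b (hc.snd b) h1 hb (hc.w b)

/-- In a quasi-compact locally Noetherian algebraic space every open set of points is compact. -/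
theorem isCompact_of_isOpen_of_isLocNoethSp {X : Sp S} (hqc : IsQuasiCompactSp X)
    (hN : IsLocNoethSp X) (O : Set (Points X)) : IsCompact O := by
  obtain ⟨U₁, p₁, hp₁e, hp₁s, hU₁c⟩ := hqc
  obtain ⟨U₂, p₂, hp₂e, hp₂s, hN₂⟩ := hN
  have : CompactSpace ↥U₁.left := hU₁c
  have : IsLocallyNoetherian U₂.left := hN₂
  have sq := hp₂e.rep.isPullback' p₁
  have hq₁ : Etale (hp₂e.rep.fst' p₁).left := hp₁e.property _ _ _ sq.flip
  have hq₂S : Surjective (hp₂e.rep.snd p₁).left := hp₂s.property _ _ _ sq
  have hq₂E : Etale (hp₂e.rep.snd p₁).left := hp₂e.property _ _ _ sq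
  have : IsLocallyNoetherian (hp₂e.rep.pullback p₁).left :=
    LocallyOfFiniteType.isLocallyNoetherian (hp₂e.rep.fst' p₁).left
  have h1 : TopologicalSpace.NoetherianSpace ↥(Set.univ : Set U₁.left) :=
    Groth.Agent.H51.noetherianSpace_of_isCompact_of_cover (hp₂e.rep.snd p₁).left
      (hp₂e.rep.snd p₁).left.isOpenMap _ isCompact_univ (fun w _ => hq₂S.surj w)
  have h2 : TopologicalSpace.NoetherianSpace ↥U₁.left := TopologicalSpace.noetherian_univ_iff.1 h1
  have hsurj : Function.Surjective (Points.ofPt p₁) :=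
    Groth.Agent.H51.surjective_ofPt_of_surjective p₁ hp₁s
  have h3 : IsCompact (Points.ofPt p₁ ⁻¹' O) := TopologicalSpace.NoetherianSpace.isCompact _
  have h4 := h3.image (Points.continuous_ofPt p₁)
  rwa [Set.image_preimage_eq O hsurj] at h4

end Groth.Agent.H53.Induct
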