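import Groth.Agent.H53.Induct.Enlarge1

/-!
# Enlarging an open subspace by an affine etale chart: the combined chart
-/

set_option autoImplicit false
universe u
open CategoryTheory CategoryTheory.Limits AlgebraicGeometry Opposite
open AlgSp

namespace Groth.Agent.H53.Induct

variable {S : Scheme.{u}}

/-- A field-valued point of the target of an open immersion whose point lies in the image factors
through the open immersion. -/
theorem exists_field_factor_of_isOpenImmersion {V W : Over S} (i : W ⟶ V)
    [IsOpenImmersion i.left] (K : Type u) [Field K] (str : Spec (.of K) ⟶ S)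
    (a' : Over.mk str ⟶ V) (w : (W.left : Scheme.{u}))
    (hw : i.left w = a'.left (IsLocalRing.closedPoint K)) :
    ∃ a₀ : Over.mk str ⟶ W, a₀ ≫ i = a' := by
  have hr : Set.range a'.left ⊆ Set.range i.left := by
    rintro _ ⟨x, rfl⟩
    have hx : x = IsLocalRing.closedPoint K := @Subsingleton.elim (PrimeSpectrum K) _ x _
    rw [hx]
    exact ⟨w, hw⟩
  refine ⟨Over.homMk (IsOpenImmersion.lift i.left a'.left hr) ?_, ?_⟩
  · have h1 : i.left ≫ V.hom = W.hom := Over.w i
    have h2 : a'.left ≫ V.hom = str := Over.w a'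
    change IsOpenImmersion.lift i.left a'.left hr ≫ W.hom = str
    rw [← h1, ← Category.assoc, IsOpenImmersion.lift_fac, h2]
  · apply Over.OverMorphism.ext
    exact IsOpenImmersion.lift_fac _ _ _

/-- The combined chart: one affine etale chart `φ` which is injective on field points outside `U`,
together with finitely many affine etale charts of `U`. -/
theorem exists_enlarge_chart {X U : Sp S} (hX : IsAlgSpace X) (j : U ⟶ X)
    {T : Over S} (hT : IsAffine T.left) (φ : (yon S).obj T ⟶ X) (hφ : RepWith @Etale φ)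
    (hinj : FieldInjOff φ (Set.range (Points.map j)))
    {κ : Type u} [Finite κ] (A : κ → Over S) (hA : ∀ k, IsAffine (A k).left)
    (c : ∀ k, (yon S).obj (A k) ⟶ U) (hc : ∀ k, RepWith @Etale (c k ≫ j)) :
    ∃ (V : Over S) (mm : (yon S).obj V ⟶ X), IsAffine V.left ∧ RepWith @Etale mm ∧
      Set.range (Points.map mm) =
        Set.range (Points.map φ) ∪ ⋃ k, Set.range (Points.map (c k ≫ j)) ∧
      FieldInjOff mm (Set.range (Points.map j)) ∧
      ∀ k, ∃ ik : A k ⟶ V, (yon S).map ik ≫ mm = c k ≫ j := by
  obtain ⟨V, i₀, i₁, mm, hVaff, hmme, hf₀, hf₁, hcov, hoi₀, hoi₁⟩ :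
      ∃ (V : Over S) (i₀ : T ⟶ V) (i₁ : ∀ k, A k ⟶ V) (mm : (yon S).obj V ⟶ X),
        IsAffine V.left ∧ RepWith @Etale mm ∧ (yon S).map i₀ ≫ mm = φ ∧
        (∀ k, (yon S).map (i₁ k) ≫ mm = c k ≫ j) ∧
        (∀ v : V.left, (∃ w : T.left, i₀.left w = v) ∨ ∃ (k : κ) (w : (A k).left),
          (i₁ k).left w = v) ∧
        IsOpenImmersion i₀.left ∧ ∀ k, IsOpenImmersion (i₁ k).left := by
    let W : Option κ → Over S := fun o => o.elim T A
    let m : ∀ o : Option κ, (yon S).obj (W o) ⟶ X := fun o =>
      match o with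
      | none => φ
      | some k => c k ≫ j
    have hW : ∀ o, IsAffine (W o).left := by
      rintro (_ | k)
      · exact hT
      · exact hA k
    have hm : ∀ o, RepWith @Etale (m o) := by
      rintro (_ | k)
      · exact hφ
      · exact hc k
    obtain ⟨V, inj, mm, hVaff, hmme, hfac, hcov, hoi⟩ := exists_coprod_chart_oi hX W hW m hm
    refine ⟨V, inj none, fun k => inj (some k), mm, hVaff, hmme, hfac none,
      fun k => hfac (some k), ?_, hoi none, fun k => hoi (some k)⟩
    intro v
    obtain ⟨o, w, hw⟩ := hcov v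
    rcases o with _ | k
    · exact Or.inl ⟨w, hw⟩
    · exact Or.inr ⟨k, w, hw⟩
  refine ⟨V, mm, hVaff, hmme, ?_, ?_, fun k => ⟨i₁ k, hf₁ k⟩⟩
  · -- the range
    ext x
    constructor
    · rintro ⟨y, rfl⟩
      obtain ⟨v, rfl⟩ := (Points.schemeEquiv V).surjective y
      rcases hcov v with ⟨w, hw⟩ | ⟨k, w, hw⟩
      · left
        refine ⟨Points.schemeEquiv T w, ?_⟩
        rw [← hf₀, Points.map_comp, ← hw]
        congr 1
        exact Points.map_yon_map_apply i₀ w
      · right
        refine Set.mem_iUnion.2 ⟨k, Points.schemeEquiv (A k) w, ?_⟩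
        rw [← hf₁ k, Points.map_comp, ← hw]
        congr 1
        exact Points.map_yon_map_apply (i₁ k) w
    · rintro (⟨y, rfl⟩ | h)
      · refine ⟨Points.map ((yon S).map i₀) y, ?_⟩
        rw [← Points.map_comp, hf₀]
      · obtain ⟨k, y, rfl⟩ := Set.mem_iUnion.1 h
        refine ⟨Points.map ((yon S).map (i₁ k)) y, ?_⟩
        rw [← Points.map_comp, hf₁ k]
  · -- injectivity on field points outside `U`
    have key : ∀ (K : Type u) [Field K] (str : Spec (.of K) ⟶ S)
        (a : (yon S).obj (Over.mk str) ⟶ (yon S).obj V),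
        Points.mk (fieldPtOfHom K str (a ≫ mm)) ∉ Set.range (Points.map j) →
        ∃ a₀ : (yon S).obj (Over.mk str) ⟶ (yon S).obj T, a₀ ≫ (yon S).map i₀ = a := by
      intro K _ str a hout
      obtain ⟨a', rfl⟩ := (yon S).map_surjective a
      rcases hcov (a'.left (IsLocalRing.closedPoint K)) with ⟨w, hw⟩ | ⟨k, w, hw⟩
      · obtain ⟨a₀, ha₀⟩ := exists_field_factor_of_isOpenImmersion i₀ K str a' w hw
        exact ⟨(yon S).map a₀, by rw [← Functor.map_comp, ha₀]⟩
      · exfalso
        have := hoi₁ k
        obtain ⟨a₀, ha₀⟩ := exists_field_factor_of_isOpenImmersion (i₁ k) K str a' w hw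
        apply hout
        have e : (yon S).map a' ≫ mm = ((yon S).map a₀ ≫ c k) ≫ j := by
          rw [← ha₀, Functor.map_comp, Category.assoc, hf₁ k, Category.assoc]
        refine ⟨Points.mk (fieldPtOfHom K str ((yon S).map a₀ ≫ c k)), ?_⟩
        rw [e]
        exact (mk_fieldPtOfHom_comp_eq_map j K str _).symm
    intro K _ str a b hab hout
    have hout' : Points.mk (fieldPtOfHom K str (b ≫ mm)) ∉ Set.range (Points.map j) := by
      rw [← hab]; exact hout
    obtain ⟨a₀, rfl⟩ := key K str a hout
    obtain ⟨b₀, rfl⟩ := key K str b hout'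
    have h1 : a₀ ≫ φ = b₀ ≫ φ := by
      have := hab
      rw [Category.assoc, Category.assoc, hf₀] at this
      exact this
    have h2 : Points.mk (fieldPtOfHom K str (a₀ ≫ φ)) ∉ Set.range (Points.map j) := by
      have := hout
      rw [Category.assoc, hf₀] at this
      exact this
    rw [hinj K str a₀ b₀ h1 h2]

end Groth.Agent.H53.Induct
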