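import Groth.Agent.H53.Induct.Enlarge2

/-!
# Enlarging an open subspace of a Noetherian algebraic space by an affine etale chart
-/

set_option autoImplicit false
universe u
open CategoryTheory CategoryTheory.Limits AlgebraicGeometry Opposite
open AlgSp

namespace Groth.Agent.H53.Induct

variable {S : Scheme.{u}}

/-- A quasi-compact algebraic space has a finite family of affine etale charts which is jointly
surjective on points. -/
theorem exists_finite_affine_charts {U : Sp S} (hqc : IsQuasiCompactSp U) :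
    ∃ (κ : Type u) (_ : Finite κ) (A : κ → Over S) (c : ∀ k, (yon S).obj (A k) ⟶ U),
      (∀ k, IsAffine (A k).left) ∧ (∀ k, RepWith @Etale (c k)) ∧
      ∀ x : Points U, ∃ (k : κ) (y : Points ((yon S).obj (A k))), Points.map (c k) y = x := by
  classical
  obtain ⟨V, a, hae, has, hVc⟩ := hqc
  have : CompactSpace ↥V.left := hVc
  have hcov : (Set.univ : Set ↥V.left) ⊆ ⋃ b : V.left.affineOpens, (b.1 : Set ↥V.left) := by
    intro v _
    obtain ⟨_, ⟨b, hb, rfl⟩, hvb, -⟩ :=
      (V.left.isBasis_affineOpens).exists_subset_of_mem_open (Set.mem_univ v) isOpen_univ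
    exact Set.mem_iUnion.2 ⟨⟨b, hb⟩, hvb⟩
  obtain ⟨t, ht⟩ := isCompact_univ.elim_finite_subcover _
    (fun b : V.left.affineOpens => b.1.isOpen) hcov
  refine ⟨{b // b ∈ t}, inferInstance, fun k => Groth.Agent.H51.overOpen V k.1.1,
    fun k => (yon S).map (Groth.Agent.H51.overOpenι V k.1.1) ≫ a, fun k => k.1.2,
    fun k => Groth.Agent.H51.repWith_etale_restrict a hae k.1.1, ?_⟩
  intro x
  obtain ⟨v, rfl⟩ := Groth.Agent.H51.surjective_ofPt_of_surjective a has x
  obtain ⟨b, hb⟩ := Set.mem_iUnion.1 (ht (Set.mem_univ v))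
  obtain ⟨hbt, hvb⟩ := Set.mem_iUnion.1 hb
  have hmem : Points.ofPt a v ∈
      Set.range (Points.map ((yon S).map (Groth.Agent.H51.overOpenι V b.1) ≫ a)) := by
    rw [range_map_eq_range_ofPt, Groth.Agent.H51.range_ofPt_restrict]
    exact ⟨v, hvb, rfl⟩
  obtain ⟨y, hy⟩ := hmem
  exact ⟨⟨b, hbt⟩, y, hy⟩

/-- **S10708**, in `Sp`-free form. -/
theorem exists_enlarging_square [QuasiSeparatedSpace ↥S] {X U : AlgSp.Space S}
    (hqc : IsQuasiCompactSp X.obj) (hqs : IsQuasiSeparatedSp X.obj) (hN : IsLocNoethSp X.obj)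
    (j : U ⟶ X) (hj : RepWith @IsOpenImmersion j.hom)
    (hne : Set.range (Points.map j.hom) ≠ Set.univ) :
    ∃ (V : Over S) (_ : IsAffine V.left) (W : AlgSp.Space S) (jW : W ⟶ X) (jU : U ⟶ W)
      (φ : (AlgSp.ofScheme S).obj V ⟶ W) (P : AlgSp.Space S) (p : P ⟶ U)
      (q : P ⟶ (AlgSp.ofScheme S).obj V),
      RepWith @Etale (φ ≫ jW).hom ∧ RepWith @IsOpenImmersion jW.hom ∧ jU ≫ jW = j ∧
        Set.range (Points.map jW.hom) =
          Set.range (Points.map j.hom) ∪ Set.range (Points.map (φ ≫ jW).hom) ∧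
        Set.range (Points.map jW.hom) ≠ Set.range (Points.map j.hom) ∧
        IsElemDistSq jU.hom φ.hom ∧ IsPullback p.hom q.hom jU.hom φ.hom ∧
        IsDominantMor p.hom := by
  have hUc : IsCompact (Set.range (Points.map j.hom)) :=
    isCompact_of_isOpen_of_isLocNoethSp hqc hN _
  have hUo : IsOpen (Set.range (Points.map j.hom)) := isOpen_range_of_isOpenImmersion _ hj
  have hUqc : IsQuasiCompactSp U.obj :=
    isQuasiCompactSp_of_isCompact_range U.property j.hom hj hUc
  obtain ⟨κ, hκ, A, c, hA, hce, hcs⟩ := exists_finite_affine_charts hUqc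
  have hjet : RepWith @Etale j.hom := Groth.Agent.H51.repWith_mono (fun _ _ g hg => by
    have : IsOpenImmersion g := hg
    exact (inferInstance : Etale g)) hj
  have hc : ∀ k, RepWith @Etale (c k ≫ j.hom) := fun k =>
    (RepWith @Etale).comp_mem _ _ (hce k) hjet
  -- the induction
  refine (induction_on_opens X hqc hqs ∅ isOpen_empty isCompact_empty
    (fun O => O ⊆ Set.range (Points.map j.hom) ∨ _) (Or.inl (Set.empty_subset _)) ?_).resolve_left
    (fun h => hne (Set.eq_univ_of_univ_subset h))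
  intro O₁ T φ hO₁o hO₁c _ hT hφ hinj hQ
  rcases hQ with hsub | hgoal
  swap
  · exact Or.inr hgoal
  by_cases hφU : Set.range (Points.map φ) ⊆ Set.range (Points.map j.hom)
  · exact Or.inl (Set.union_subset hsub hφU)
  right
  have hinjU : FieldInjOff φ (Set.range (Points.map j.hom)) := by
    intro K _ str a b hab hout
    exact hinj K str a b hab (fun h => hout (hsub h))
  obtain ⟨V, mm, hVaff, hmme, hrange, hinjV, hik⟩ :=
    exists_enlarge_chart X.property j.hom hT φ hφ hinjU A hA c hc
  have hUsub : (⋃ k, Set.range (Points.map (c k ≫ j.hom))) = Set.range (Points.map j.hom) := by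
    ext x
    constructor
    · intro hx
      obtain ⟨k, y, rfl⟩ := Set.mem_iUnion.1 hx
      exact ⟨Points.map (c k) y, (Points.map_comp _ _ _).symm⟩
    · rintro ⟨y, rfl⟩
      obtain ⟨k, z, rfl⟩ := hcs y
      exact Set.mem_iUnion.2 ⟨k, z, Points.map_comp _ _ _⟩
  rw [hUsub] at hrange
  have hmmo : IsOpen (Set.range (Points.map mm)) := by
    rw [range_map_eq_range_ofPt]
    exact (Groth.Agent.H51.isOpenMap_ofPt_of_etale mm hmme).isOpen_range
  obtain ⟨W₀, jW, hW₀alg, hjW, hjWr⟩ := Groth.Agent.H51.exists_open_subspace X.property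
    (Set.range (Points.map j.hom) ∪ Set.range (Points.map mm)) (hUo.union hmmo)
  obtain ⟨k, f, hk, hf, hsq⟩ := step_exists hW₀alg j.hom jW hj hjW mm hmme hjWr hinjV
  have sqP := IsPullback.of_hasPullback k f
  have hPalg : IsAlgSpace (pullback k f) :=
    Groth.Agent.H49.isAlgSpace_of_isPullback sqP hW₀alg.diag U.property (IsAlgSpace.yon_obj V)
  have hjWm : Mono jW := mono_of_isOpenImmersion jW hjW
  have hjWinj : Function.Injective (Points.map jW) := Groth.Agent.H51.injective_map_of_mono jW
  refine ⟨V, hVaff, ⟨W₀, hW₀alg⟩, ObjectProperty.homMk jW, ObjectProperty.homMk k,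
    ObjectProperty.homMk f, ⟨pullback k f, hPalg⟩, ObjectProperty.homMk (pullback.fst k f),
    ObjectProperty.homMk (pullback.snd k f), ?_, hjW, ObjectProperty.hom_ext _ hk, ?_, ?_, hsq,
    sqP, ?_⟩
  · show RepWith @Etale (f ≫ jW)
    rw [hf]; exact hmme
  · show Set.range (Points.map jW) = Set.range (Points.map j.hom) ∪ Set.range (Points.map (f ≫ jW))
    rw [hf]; exact hjWr
  · show Set.range (Points.map jW) ≠ Set.range (Points.map j.hom)
    intro h
    apply hφU
    rw [← h, hjWr, hrange]
    exact Set.subset_union_of_subset_right Set.subset_union_left _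
  · show DenseRange (Points.map (pullback.fst k f))
    apply Function.Surjective.denseRange
    intro x
    obtain ⟨κ₀, y, rfl⟩ := hcs x
    obtain ⟨ik, hik'⟩ := hik κ₀
    have h1 : Points.map k (Points.map (c κ₀) y) =
        Points.map f (Points.map ((yon S).map ik) y) := by
      apply hjWinj
      rw [← Points.map_comp, ← Points.map_comp, hk, ← Points.map_comp, hf, ← Points.map_comp,
        hik']
    obtain ⟨z, hz, -⟩ := exists_point_of_isPullback sqP _ _ h1
    exact ⟨z, hz⟩

end Groth.Agent.H53.Induct
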