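import Groth.Agent.H53.Induct.QuasiAffine
import Groth.Agent.H50.EffCartierCompl
import Groth.Agent.H50.LimRep
import Groth.Agent.H50.LimAffineE

/-!
# The induction principle for families of objects of `EtSpOver X`
-/

set_option autoImplicit false
universe u
open CategoryTheory CategoryTheory.Limits AlgebraicGeometry Opposite
open AlgSp

namespace Groth.Agent.H53.Induct

variable {S : Scheme.{u}}

theorem isCompact_biSup_basicOpen {T : Scheme.{u}} {D' : T.Opens} (hD' : IsAffineOpen D')
    (s : Finset Γ(T, D')) :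
    IsCompact ((⨆ f ∈ s, T.basicOpen f : T.Opens) : Set T) := by
  have : ((⨆ f ∈ s, T.basicOpen f : T.Opens) : Set T) = ⋃ f ∈ s, (T.basicOpen f : Set T) := by
    simp
  rw [this]
  exact s.isCompact_biUnion (fun f _ => (hD'.basicOpen f).isCompact)

theorem biSup_basicOpen_le {T : Scheme.{u}} {D' : T.Opens} (s : Finset Γ(T, D')) :
    (⨆ f ∈ s, T.basicOpen f : T.Opens) ≤ D' :=
  iSup₂_le fun f _ => T.basicOpen_le f

section

variable (X : AlgSp.Space S) (B P : AlgSp.EtSpOver X → Prop)

/-- Hypothesis (2) of the family induction principle. -/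
def Hyp2 : Prop :=
  ∀ (W U : AlgSp.EtSpOver X) (j : U ⟶ W), B W → AlgSp.RepWith @IsOpenImmersion j.hom.left.hom →
      AlgSp.IsQuasiCompactSp U.obj.left.obj → B U

/-- Hypothesis (3) of the family induction principle. -/
def Hyp3 : Prop :=
  ∀ (V : AlgSp.EtSpOver X) (T : Over S), IsAffine T.left →
      Nonempty ((AlgSp.yon S).obj T ≅ V.obj.left.obj) → B V ∧ P V

/-- Hypothesis (4) of the family induction principle. -/
def Hyp4 : Prop :=
  ∀ (W U V UV : AlgSp.EtSpOver X) (j : U ⟶ W) (f : V ⟶ W) (p : UV ⟶ U) (q : UV ⟶ V),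
      B W → AlgSp.IsQuasiCompactSp U.obj.left.obj →
      (∃ T : Over S, IsAffine T.left ∧ Nonempty ((AlgSp.yon S).obj T ≅ V.obj.left.obj)) →
      AlgSp.IsElemDistSq j.hom.left.hom f.hom.left.hom →
      IsPullback p.hom.left.hom q.hom.left.hom j.hom.left.hom f.hom.left.hom →
      P U → P V → P UV → P W

variable {X B P}

theorem affine_openObj (h3 : Hyp3 X B P) (T : Over S) (a : (yon S).obj T ⟶ X.obj)
    (ha : RepWith @Etale a) (D : T.left.Opens) (hD : IsAffineOpen D) :
    B (openObj T a ha D) ∧ P (openObj T a ha D) :=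
  h3 (openObj T a ha D) (Groth.Agent.H51.overOpen T D) hD ⟨Iso.refl _⟩

theorem B_openObj (h2 : Hyp2 X B) (h3 : Hyp3 X B P) (T : Over S) (a : (yon S).obj T ⟶ X.obj)
    (ha : RepWith @Etale a) (D' : T.left.Opens) (hD' : IsAffineOpen D') (O : T.left.Opens)
    (hO : O ≤ D') (hOc : IsCompact (O : Set ↥T.left)) : B (openObj T a ha O) := by
  have hc : CompactSpace ↥(Groth.Agent.H51.overOpen T O).left := isCompact_iff_compactSpace.1 hOc
  exact h2 (openObj T a ha D') (openObj T a ha O) (openHom T a ha hO)
    (affine_openObj h3 T a ha D' hD').1 (repWith_isOpenImmersion_overHomOfLE T hO)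
    (Groth.Agent.H49.isQuasiCompactSp_yon _)

/-- The induction principle for finite unions of basic opens of an affine open of a chart. -/
theorem P_openObj_basic (h2 : Hyp2 X B) (h3 : Hyp3 X B P) (h4 : Hyp4 X B P)
    (T : Over S) (a : (yon S).obj T ⟶ X.obj)
    (ha : RepWith @Etale a) (D' : T.left.Opens) (hD' : IsAffineOpen D') :
    ∀ (n : ℕ) (s : Finset Γ(T.left, D')), s.card ≤ n →
      P (openObj T a ha (⨆ f ∈ s, T.left.basicOpen f)) := by
  classical
  intro n
  induction n with
  | zero =>
    intro s hs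
    have hs0 : s = ∅ := Finset.card_eq_zero.1 (Nat.le_zero.1 hs)
    subst hs0
    have hbot : (⨆ f ∈ (∅ : Finset Γ(T.left, D')), T.left.basicOpen f : T.left.Opens) = ⊥ := by simp
    rw [hbot]
    exact (affine_openObj h3 T a ha ⊥ (isAffineOpen_bot T.left)).2
  | succ n ih =>
    intro s hs
    rcases s.eq_empty_or_nonempty with hs0 | ⟨f, hf⟩
    · exact ih s (by rw [hs0]; simp)
    · set s' := s.erase f with hs'
      have hcard : s'.card ≤ n := by
        rw [hs', Finset.card_erase_of_mem hf]; omega
      set s'' := s'.image (fun g => g * f) with hs''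
      have hcard'' : s''.card ≤ n := Finset.card_image_le.trans hcard
      set O : T.left.Opens := ⨆ g ∈ s, T.left.basicOpen g with hOdef
      set O' : T.left.Opens := ⨆ g ∈ s', T.left.basicOpen g with hO'def
      set O'' : T.left.Opens := ⨆ g ∈ s'', T.left.basicOpen g with hO''def
      set D : T.left.Opens := T.left.basicOpen f with hDdef
      have hDaff : IsAffineOpen D := hD'.basicOpen f
      have hO'O : O' ≤ O :=
        iSup₂_le fun g hg => le_iSup₂_of_le g (Finset.mem_of_mem_erase hg) le_rfl
      have hDO : D ≤ O := le_iSup₂_of_le f hf le_rfl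
      have hOle : O ≤ O' ⊔ D := by
        refine iSup₂_le fun g hg => ?_
        by_cases hgf : g = f
        · rw [hgf]; exact le_sup_right
        · exact le_sup_of_le_left (le_iSup₂_of_le g (Finset.mem_erase.2 ⟨hgf, hg⟩) le_rfl)
      have hO''eq : O'' = O' ⊓ D := by
        rw [hO''def, hs'', Finset.iSup_finset_image, hO'def, iSup_inf_eq]
        congr 1
        ext g : 1
        rw [iSup_inf_eq]
        congr 1
        ext _ : 1
        exact T.left.basicOpen_mul g f
      have hO''O' : O'' ≤ O' := hO''eq.le.trans inf_le_left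
      have hO''D : O'' ≤ D := hO''eq.le.trans inf_le_right
      have hBO : B (openObj T a ha O) :=
        B_openObj h2 h3 T a ha D' hD' O (biSup_basicOpen_le s) (isCompact_biSup_basicOpen hD' s)
      have hc' : CompactSpace ↥(Groth.Agent.H51.overOpen T O').left :=
        isCompact_iff_compactSpace.1 (isCompact_biSup_basicOpen hD' s')
      exact h4 (openObj T a ha O) (openObj T a ha O') (openObj T a ha D) (openObj T a ha O'')
        (openHom T a ha hO'O) (openHom T a ha hDO) (openHom T a ha hO''O') (openHom T a ha hO''D)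
        hBO (Groth.Agent.H49.isQuasiCompactSp_yon _)
        ⟨Groth.Agent.H51.overOpen T D, hDaff, ⟨Iso.refl _⟩⟩
        (isElemDistSq_opens T hO'O hDO hOle)
        (isPullback_yon_opens T hO'O hDO hO''O' hO''D hO''eq)
        (ih s' hcard) (affine_openObj h3 T a ha D hDaff).2 (ih s'' hcard'')

end

end Groth.Agent.H53.Induct
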