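import Groth.Agent.H53.Induct.Family
import Groth.Agent.H53.LargestOpenInst

/-!
# The family induction principle (statement of S10767)
-/

set_option autoImplicit false
universe u
open CategoryTheory CategoryTheory.Limits AlgebraicGeometry Opposite
open AlgSp

namespace Groth.Agent.H53.Induct

variable {S : Scheme.{u}}

theorem isEtaleMor_comp_of_isOpenImmersion {W Y X : Sp S} (j : W ⟶ Y) (g : Y ⟶ X)
    (hj : RepWith @IsOpenImmersion j) (hg : IsEtaleMor g) : IsEtaleMor (j ≫ g) :=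
  fun U φ hφ => by
    rw [← Category.assoc]
    exact hg _ (Groth.Agent.H53.isEtaleMor_of_isOpenImmersion j hj φ hφ)

theorem opens_eq_biSup_of_finite {T : Scheme.{u}} (Q : T.Opens) (s : Set Γ(T, ⊤)) (hs : s.Finite)
    (hQ : (Q : Set T) = ⋃ i ∈ s, (T.basicOpen i : Set T)) :
    Q = ⨆ f ∈ hs.toFinset, T.basicOpen f := by
  apply TopologicalSpace.Opens.ext
  rw [hQ]
  simp

/-- **The family induction principle.** -/
theorem family_induction [QuasiSeparatedSpace ↥S] (X : AlgSp.Space S)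
    (B P : AlgSp.EtSpOver X → Prop)
    (h1 : ∀ W, B W → AlgSp.IsQuasiCompactSp W.obj.left.obj ∧ AlgSp.IsQuasiSeparatedSp W.obj.left.obj)
    (h2 : Hyp2 X B) (h3 : Hyp3 X B P) (h4 : Hyp4 X B P) :
    ∀ W : AlgSp.EtSpOver X, B W → P W := by
  classical
  intro W₀ hW₀
  obtain ⟨hYc, hYs⟩ := h1 W₀ hW₀
  have hg : IsEtaleMor W₀.obj.hom.hom := W₀.property
  -- the key step
  have key : ∀ (O₁ : Set (Points W₀.obj.left.obj)), IsCompact O₁ →
      (∃ (W₁ : AlgSp.Space S) (j₁ : W₁ ⟶ W₀.obj.left) (he : IsEtaleMor (j₁ ≫ W₀.obj.hom).hom),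
        RepWith @IsOpenImmersion j₁.hom ∧ Set.range (Points.map j₁.hom) = O₁ ∧
          P ⟨Over.mk (j₁ ≫ W₀.obj.hom), he⟩) →
      ∀ (T : Over S) (φ : (yon S).obj T ⟶ W₀.obj.left.obj), IsAffine T.left → RepWith @Etale φ →
        FieldInjOff φ O₁ →
      ∀ (W₂ : AlgSp.Space S) (j₂ : W₂ ⟶ W₀.obj.left), RepWith @IsOpenImmersion j₂.hom →
        Set.range (Points.map j₂.hom) = O₁ ∪ Set.range (Points.map φ) →
      ∀ he₂ : IsEtaleMor (j₂ ≫ W₀.obj.hom).hom, P ⟨Over.mk (j₂ ≫ W₀.obj.hom), he₂⟩ := by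
    rintro O₁ hc₁ ⟨W₁, j₁, he₁, hj₁, hr₁, hP₁⟩ T φ hT hφ hinj W₂ j₂ hj₂ hr₂ he₂
    have hTaff : IsAffine T.left := hT
    obtain ⟨k₀, f₀, hk₀, hf₀, hsq⟩ :=
      step_exists W₂.property j₁.hom j₂.hom hj₁ hj₂ φ hφ
        (by rw [hr₂, hr₁]) (by rw [hr₁]; exact hinj)
    have hqc₁ : IsQuasiCompactSp W₁.obj :=
      isQuasiCompactSp_of_isCompact_range W₁.property j₁.hom hj₁ (by rw [hr₁]; exact hc₁)
    have hqc₂ : IsQuasiCompactSp W₂.obj :=
      isQuasiCompactSp_of_isCompact_range W₂.property j₂.hom hj₂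
        (by rw [hr₂]; exact hc₁.union (isCompact_range_yon φ))
    let E₁ : AlgSp.EtSpOver X := ⟨Over.mk (j₁ ≫ W₀.obj.hom), he₁⟩
    let E₂ : AlgSp.EtSpOver X := ⟨Over.mk (j₂ ≫ W₀.obj.hom), he₂⟩
    let jE : E₁ ⟶ E₂ := ObjectProperty.homMk (Over.homMk (ObjectProperty.homMk k₀ : W₁ ⟶ W₂) (by
      apply ObjectProperty.hom_ext
      change k₀ ≫ j₂.hom ≫ W₀.obj.hom.hom = j₁.hom ≫ W₀.obj.hom.hom
      rw [← Category.assoc, hk₀]))
    let mE : E₂ ⟶ W₀ := ObjectProperty.homMk (Over.homMk j₂ rfl)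
    have hB₂ : B E₂ := h2 W₀ E₂ mE hW₀ hj₂ hqc₂
    have hqs₂ : IsQuasiSeparatedSp W₂.obj := (h1 E₂ hB₂).2
    have hφa : RepWith @Etale (φ ≫ W₀.obj.hom.hom) := hg φ hφ
    let EV : AlgSp.EtSpOver X :=
      ⟨Over.mk (Y := (AlgSp.ofScheme S).obj T) (ObjectProperty.homMk (φ ≫ W₀.obj.hom.hom)),
        AlgSp.isEtaleMor_of_repWith _ hφa⟩
    let fE : EV ⟶ E₂ := ObjectProperty.homMk (Over.homMk
      (ObjectProperty.homMk f₀ : (AlgSp.ofScheme S).obj T ⟶ W₂) (by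
        apply ObjectProperty.hom_ext
        change f₀ ≫ j₂.hom ≫ W₀.obj.hom.hom = φ ≫ W₀.obj.hom.hom
        rw [← Category.assoc, hf₀]))
    -- the fibre product
    have hk₀oi : RepWith @IsOpenImmersion k₀ := hsq.1
    obtain ⟨Q, fst, sqQ, -⟩ := Groth.Agent.H50.exists_opens_isPullback k₀ hk₀oi T f₀
    have hk₀qc : RepWith @QuasiCompact k₀ :=
      (Groth.Agent.H49.repWith_quasiCompact_iff k₀ hk₀oi.rep).2
        (Groth.Agent.H49.isQuasiCompactMor_of_isQuasiCompactSp_of_isQuasiSeparatedSp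
          W₁.property W₂.property k₀ hqc₁ hqs₂)
    have hQqc : QuasiCompact Q.ι :=
      hk₀qc.property f₀ fst (Over.homMk Q.ι rfl : Over.mk (Q.ι ≫ T.hom) ⟶ T) sqQ
    have hQc : IsCompact (Q : Set ↥T.left) := by
      have : CompactSpace ↥Q := QuasiCompact.compactSpace_of_compactSpace Q.ι
      exact isCompact_iff_compactSpace.2 this
    obtain ⟨s, hs, hQs⟩ :=
      (isCompact_and_isOpen_iff_finite_and_eq_biUnion_basicOpen (X := T.left)).1 ⟨hQc, Q.isOpen⟩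
    have hQeq := opens_eq_biSup_of_finite Q s hs hQs
    have hPUV : P (openObj T (φ ≫ W₀.obj.hom.hom) hφa Q) := by
      rw [hQeq]
      exact P_openObj_basic h2 h3 h4 T _ hφa ⊤ (isAffineOpen_top _) _ hs.toFinset le_rfl
    let p : openObj T (φ ≫ W₀.obj.hom.hom) hφa Q ⟶ E₁ := ObjectProperty.homMk (Over.homMk
      (ObjectProperty.homMk fst : (AlgSp.ofScheme S).obj (Groth.Agent.H51.overOpen T Q) ⟶ W₁) (by
        apply ObjectProperty.hom_ext
        change fst ≫ j₁.hom ≫ W₀.obj.hom.hom =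
          ((yon S).map (Groth.Agent.H51.overOpenι T Q) ≫ φ ≫ W₀.obj.hom.hom)
        rw [← hk₀, ← hf₀]
        simp only [Category.assoc]
        rw [← Category.assoc, sqQ.w, Category.assoc]))
    let q : openObj T (φ ≫ W₀.obj.hom.hom) hφa Q ⟶ EV := ObjectProperty.homMk (Over.homMk
      ((AlgSp.ofScheme S).map (Groth.Agent.H51.overOpenι T Q)) (by
        apply ObjectProperty.hom_ext
        rfl))
    exact h4 E₂ E₁ EV (openObj T (φ ≫ W₀.obj.hom.hom) hφa Q) jE fE p q hB₂ hqc₁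
      ⟨T, hTaff, ⟨Iso.refl _⟩⟩ hsq sqQ hP₁ (h3 EV T hTaff ⟨Iso.refl _⟩).2 hPUV
  -- the start
  obtain ⟨T₀, hT₀, φ₀, hφ₀⟩ := exists_empty_chart W₀.obj.left.property
  have := hT₀
  have hφ₀oi := repWith_isOpenImmersion_of_isEmpty W₀.obj.left.property φ₀ hφ₀
  have he₀ : IsEtaleMor ((ObjectProperty.homMk φ₀ : (AlgSp.ofScheme S).obj T₀ ⟶ W₀.obj.left) ≫
      W₀.obj.hom).hom := isEtaleMor_comp_of_isOpenImmersion φ₀ _ hφ₀oi hg
  have hfinal := induction_on_opens W₀.obj.left hYc hYs ∅ isOpen_empty isCompact_empty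
    (fun O => IsCompact O ∧
      ∃ (W₁ : AlgSp.Space S) (j₁ : W₁ ⟶ W₀.obj.left) (he : IsEtaleMor (j₁ ≫ W₀.obj.hom).hom),
        RepWith @IsOpenImmersion j₁.hom ∧ Set.range (Points.map j₁.hom) = O ∧
          P ⟨Over.mk (j₁ ≫ W₀.obj.hom), he⟩)
    ⟨isCompact_empty, (AlgSp.ofScheme S).obj T₀, ObjectProperty.homMk φ₀, he₀, hφ₀oi,
      range_map_eq_empty_of_isEmpty φ₀, (h3 _ T₀ inferInstance ⟨Iso.refl _⟩).2⟩
    (by
      intro O₁ T φ hO₁ hc₁ _ hT hφ hinj hQ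
      have hO₂ : IsOpen (O₁ ∪ Set.range (Points.map φ)) := by
        refine hO₁.union ?_
        rw [range_map_eq_range_ofPt]
        exact (Groth.Agent.H51.isOpenMap_ofPt_of_etale φ hφ).isOpen_range
      have hTaff : IsAffine T.left := hT
      have hc₂ : IsCompact (O₁ ∪ Set.range (Points.map φ)) :=
        hc₁.union (isCompact_range_yon φ)
      have hj₂ := Groth.Agent.H51.repWith_isOpenImmersion_openSubι (F := W₀.obj.left.obj) _ hO₂
      have hr₂ := Groth.Agent.H51.range_map_openSubι (F := W₀.obj.left.obj)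
        (O₁ ∪ Set.range (Points.map φ))
      let W₂ : AlgSp.Space S :=
        ⟨Groth.Agent.H51.openSubSp W₀.obj.left.obj (O₁ ∪ Set.range (Points.map φ)),
          Groth.Agent.H51.isAlgSpace_openSubSp W₀.obj.left.property _ hO₂⟩
      let j₂ : W₂ ⟶ W₀.obj.left := ObjectProperty.homMk (Groth.Agent.H51.openSubι W₀.obj.left.obj _)
      have he₂ : IsEtaleMor (j₂ ≫ W₀.obj.hom).hom :=
        isEtaleMor_comp_of_isOpenImmersion _ _ hj₂ hg
      exact ⟨hc₂, W₂, j₂, he₂, hj₂, hr₂, key O₁ hc₁ hQ.2 T φ hTaff hφ hinj W₂ j₂ hj₂ hr₂ he₂⟩)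
  obtain ⟨hcu, hQu⟩ := hfinal
  have hid : IsEtaleMor (𝟙 W₀.obj.left ≫ W₀.obj.hom).hom := by
    rw [Category.id_comp]; exact hg
  have hlast := key Set.univ hcu hQu T₀ φ₀ inferInstance hφ₀
    (fieldInjOff_of_isEmpty φ₀ _) W₀.obj.left (𝟙 _)
    (Groth.Agent.H53.repWith_isOpenImmersion_id W₀.obj.left.obj) (by
      rw [Set.univ_union]
      apply Set.eq_univ_of_forall
      intro x
      exact ⟨x, Points.map_id x⟩) hid
  have transport : ∀ (g' : W₀.obj.left ⟶ X) (_ : g' = W₀.obj.hom) (he : IsEtaleMor g'.hom),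
      P ⟨Over.mk g', he⟩ → P W₀ := by
    intro g' hg' he h
    subst hg'
    exact h
  exact transport _ (Category.id_comp _) hid hlast

end Groth.Agent.H53.Induct
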