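import Groth.Agent.H53.Induct.Step
import Groth.Agent.H51.SpBasic
import Groth.Agent.S10419

/-!
# The induction principle on quasi-compact opens of a qcqs algebraic space

From the stratification of `S10419`: every quasi-compact open of `|X|` can be enlarged to all of
`|X|` by finitely many steps, each adding the image of an affine etale chart which is injective on
field-valued points outside the previous open.
-/

set_option autoImplicit false
universe u
open CategoryTheory CategoryTheory.Limits AlgebraicGeometry Opposite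
open AlgSp

namespace Groth.Agent.H53.Induct

variable {S : Scheme.{u}}

/-- The step hypothesis of the induction principle. -/
def StepHyp {X : Sp S} (O₀ : Set (Points X)) (Q : Set (Points X) → Prop) : Prop :=
  ∀ (O₁ : Set (Points X)) (T : Over S) (φ : (yon S).obj T ⟶ X), IsOpen O₁ → IsCompact O₁ →
    O₀ ⊆ O₁ → IsAffine T.left → RepWith @Etale φ → FieldInjOff φ O₁ → Q O₁ →
    Q (O₁ ∪ Set.range (Points.map φ))

theorem mono_yon_map_overOpenι (V : Over S) (W : V.left.Opens) {F : Sp S}
    (a b : F ⟶ (yon S).obj (Groth.Agent.H51.overOpen V W))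
    (h : a ≫ (yon S).map (Groth.Agent.H51.overOpenι V W) =
      b ≫ (yon S).map (Groth.Agent.H51.overOpenι V W)) : a = b := by
  have hm : Mono ((yon S).map (Groth.Agent.H51.overOpenι V W)) :=
    mono_of_isOpenImmersion _ (Groth.Agent.H51.repWith_isOpenImmersion_overOpenι V W)
  exact (cancel_mono _).1 h

/-- Inner induction over a finite affine cover of a quasi-compact chart. -/
theorem inner_induction {X : Sp S} (O₀ : Set (Points X)) (Q : Set (Points X) → Prop)
    (hstep : StepHyp O₀ Q)
    (B : Set (Points X)) (hBo : IsOpen B) (hBc : IsCompact B) (hB0 : O₀ ⊆ B) (hQB : Q B)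
    {V : Over S} [CompactSpace ↥V.left] (φ : (yon S).obj V ⟶ X) (hφ : RepWith @Etale φ)
    (hinj : FieldInjOff φ B) :
    Q (B ∪ Set.range (Points.map φ)) := by
  classical
  -- a finite affine cover
  have hcov : (Set.univ : Set ↥V.left) ⊆ ⋃ a : V.left.affineOpens, (a.1 : Set ↥V.left) := by
    intro v _
    obtain ⟨_, ⟨a, ha, rfl⟩, hva, -⟩ :=
      (V.left.isBasis_affineOpens).exists_subset_of_mem_open (Set.mem_univ v) isOpen_univ
    exact Set.mem_iUnion.2 ⟨⟨a, ha⟩, hva⟩
  obtain ⟨t, ht⟩ := isCompact_univ.elim_finite_subcover _ (fun a : V.left.affineOpens => a.1.isOpen) hcov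
  let C : Finset V.left.affineOpens → Set (Points X) :=
    fun s => B ∪ ⋃ a ∈ s, Points.ofPt φ '' (a.1 : Set ↥V.left)
  have hCo : ∀ s, IsOpen (C s) := fun s =>
    hBo.union (isOpen_biUnion fun a _ =>
      Groth.Agent.H51.isOpenMap_ofPt_of_etale φ hφ _ a.1.isOpen)
  have hCc : ∀ s, IsCompact (C s) := fun s =>
    hBc.union (s.isCompact_biUnion fun a _ =>
      (a.2.isCompact).image (Points.continuous_ofPt φ))
  have key : ∀ s : Finset V.left.affineOpens, Q (C s) := by
    intro s
    induction s using Finset.induction_on with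
    | empty =>
      have : C ∅ = B := by simp [C]
      rw [this]; exact hQB
    | insert a s has ih =>
      have hAff : IsAffine (Groth.Agent.H51.overOpen V a.1).left := a.2
      have hφa : RepWith @Etale ((yon S).map (Groth.Agent.H51.overOpenι V a.1) ≫ φ) :=
        Groth.Agent.H51.repWith_etale_restrict φ hφ a.1
      have hinja : FieldInjOff ((yon S).map (Groth.Agent.H51.overOpenι V a.1) ≫ φ) (C s) := by
        intro K _ str x y hxy hout
        apply mono_yon_map_overOpenι
        apply hinj K str
        · rw [Category.assoc, Category.assoc]; exact hxy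
        · intro hmem
          apply hout
          rw [Category.assoc] at hmem
          exact Or.inl hmem
      have h := hstep (C s) _ _ (hCo s) (hCc s) (hB0.trans Set.subset_union_left) hAff hφa hinja ih
      have hr : Set.range (Points.map ((yon S).map (Groth.Agent.H51.overOpenι V a.1) ≫ φ)) =
          Points.ofPt φ '' (a.1 : Set ↥V.left) := by
        rw [range_map_eq_range_ofPt, Groth.Agent.H51.range_ofPt_restrict]
      rw [hr] at h
      have : C (insert a s) = C s ∪ Points.ofPt φ '' (a.1 : Set ↥V.left) := by
        simp only [C, Finset.set_biUnion_insert]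
        rw [Set.union_assoc, Set.union_comm (⋃ x ∈ s, _) _]
      rw [this]; exact h
  have hfin : C t = B ∪ Set.range (Points.map φ) := by
    simp only [C]
    congr 1
    rw [range_map_eq_range_ofPt, ← Set.image_iUnion₂, ← Set.image_univ]
    congr 1
    exact Set.eq_univ_of_univ_subset ht
  rw [← hfin]; exact key t

/-- **The induction principle on opens.** -/
theorem induction_on_opens [QuasiSeparatedSpace ↥S] (X : AlgSp.Space S)
    (hqc : IsQuasiCompactSp X.obj) (hqs : IsQuasiSeparatedSp X.obj)
    (O₀ : Set (Points X.obj)) (hO₀ : IsOpen O₀) (hc₀ : IsCompact O₀)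
    (Q : Set (Points X.obj) → Prop) (h0 : Q O₀) (hstep : StepHyp O₀ Q) : Q Set.univ := by
  obtain ⟨n, Uo, j, k, T, i, hj, hk, hiso, hempty, hi, hV⟩ := Groth.Agent.S10419.result X hqc hqs
  let A : ℕ → Set (Points X.obj) := fun p => Set.range (Points.map (j p).hom)
  have hA_open : ∀ p, IsOpen (A p) := fun p => isOpen_range_of_isOpenImmersion _ (hj p)
  have hA_anti : ∀ p, A (p + 1) ⊆ A p := by
    rintro p _ ⟨y, rfl⟩
    refine ⟨Points.map (k p).hom y, ?_⟩
    rw [← Points.map_comp]
    have : (k p).hom ≫ (j p).hom = (j (p + 1)).hom := congrArg (·.hom) (hk p)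
    rw [this]
  have hA_one : A 1 = Set.univ := by
    have : IsIso (j 1).hom := by
      have := hiso
      exact (inferInstance : IsIso ((ObjectProperty.ι _).map (j 1)))
    apply Set.eq_univ_of_forall
    intro x
    refine ⟨Points.map (inv (j 1).hom) x, ?_⟩
    rw [← Points.map_comp, IsIso.inv_hom_id, Points.map_id]
  have hA_last : A (n + 1) = ∅ := by
    apply Set.eq_empty_of_forall_notMem
    rintro _ ⟨y, rfl⟩
    exact hempty.false y
  -- the charts
  have hchart : ∀ p, 1 ≤ p → ∃ (V : Over S) (φ : (yon S).obj V ⟶ X.obj), CompactSpace ↥V.left ∧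
      RepWith @Etale φ ∧ Set.range (Points.map φ) = A p ∧ FieldInjOff φ (A (p + 1)) := by
    intro p hp
    obtain ⟨V, f, -, hVc, hfe, hfs, hP⟩ := hV p hp
    have hjm : Mono (j p).hom := mono_of_isOpenImmersion _ (hj p)
    have hjinj : Function.Injective (Points.map (j p).hom) :=
      Groth.Agent.H51.injective_map_of_mono _
    have hkj : (k p).hom ≫ (j p).hom = (j (p + 1)).hom := congrArg (·.hom) (hk p)
    have hkoi : RepWith @IsOpenImmersion (k p).hom :=
      Groth.Agent.H51.repWith_of_comp_mono (k p).hom (j p).hom (by rw [hkj]; exact hj (p + 1))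
    have hsq : IsElemDistSq (k p).hom f :=
      ⟨hkoi, Groth.Agent.H51.isEtaleMor_of_repWith_etale hfe, (T p).obj, pullback (i p).hom f,
        (i p).hom, pullback.fst _ _, pullback.snd _ _, hi p, IsPullback.of_hasPullback _ _,
        hP _ _ _ (IsPullback.of_hasPullback _ _)⟩
    have hfinj := fieldInjOff_of_isElemDistSq hsq
    refine ⟨V, f ≫ (j p).hom, hVc,
      (RepWith @Etale).comp_mem _ _ hfe
        (Groth.Agent.H51.repWith_mono (fun _ _ g hg => by
          have : IsOpenImmersion g := hg
          exact (inferInstance : Etale g)) (hj p)), ?_, ?_⟩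
    · ext x
      constructor
      · rintro ⟨y, rfl⟩
        exact ⟨Points.map f y, (Points.map_comp _ _ _).symm⟩
      · rintro ⟨y, rfl⟩
        obtain ⟨v, rfl⟩ := Groth.Agent.H51.surjective_ofPt_of_surjective f hfs y
        refine ⟨Points.ofScheme V v, ?_⟩
        rw [Points.map_comp, ← Points.ofPt_eq_map_ofScheme]
    · intro K _ str a b hab hout
      apply hfinj K str a b
      · apply (cancel_mono (j p).hom).1
        rw [Category.assoc, Category.assoc]; exact hab
      · rintro ⟨y, hy⟩
        apply hout
        refine ⟨y, ?_⟩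
        rw [← hkj, Points.map_comp, hy, ← mk_fieldPtOfHom_comp_eq_map, Category.assoc]
  have hA_compact : ∀ p, 1 ≤ p → IsCompact (A p) := by
    intro p hp
    obtain ⟨V, φ, hVc, -, hr, -⟩ := hchart p hp
    rw [← hr, range_map_eq_range_ofPt]
    exact isCompact_range (Points.continuous_ofPt φ)
  -- descending induction
  have main : ∀ m, m ≤ n → Q (O₀ ∪ A (n + 1 - m)) := by
    intro m
    induction m with
    | zero =>
      intro _
      rw [Nat.sub_zero, hA_last, Set.union_empty]; exact h0
    | succ m ih =>
      intro hm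
      have ih' := ih (by omega)
      obtain ⟨p, hp1, hpe, hpe'⟩ : ∃ p, 1 ≤ p ∧ n + 1 - m = p + 1 ∧ n + 1 - (m + 1) = p :=
        ⟨n - m, by omega, by omega, by omega⟩
      rw [hpe] at ih'
      rw [hpe']
      obtain ⟨V, φ, hVc, hφ, hr, hinj⟩ := hchart p hp1
      have hBo : IsOpen (O₀ ∪ A (p + 1)) := hO₀.union (hA_open _)
      have hBc : IsCompact (O₀ ∪ A (p + 1)) := hc₀.union (hA_compact _ (by omega))
      have hinjB : FieldInjOff φ (O₀ ∪ A (p + 1)) := by
        intro K _ str a b hab hout
        exact hinj K str a b hab (fun h => hout (Or.inr h))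
      have h := inner_induction O₀ Q hstep _ hBo hBc Set.subset_union_left ih' φ hφ hinjB
      rw [hr, Set.union_assoc, Set.union_eq_self_of_subset_left (hA_anti p)] at h
      exact h
  have := main n le_rfl
  rw [show n + 1 - n = 1 by omega, hA_one, Set.union_univ] at this
  exact this

end Groth.Agent.H53.Induct
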