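import Groth.Prelude.Def_AlgSpEt
import Groth.Agent.H53.Induct.QC
import Groth.Agent.H49.AlgSpQC

/-!
# The induction principle for quasi-compact opens of affine charts

Objects of `EtSpOver X` given by open subschemes of an etale chart, and the induction principle
for finite unions of basic opens of an affine open of the chart.
-/

set_option autoImplicit false
universe u
open CategoryTheory CategoryTheory.Limits AlgebraicGeometry Opposite
open AlgSp

namespace Groth.Agent.H53.Induct

variable {S : Scheme.{u}} {X : AlgSp.Space S}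

/-- The object of `EtSpOver X` given by an open subscheme of an etale chart. -/
noncomputable def openObj (T : Over S) (a : (yon S).obj T ⟶ X.obj) (ha : RepWith @Etale a)
    (O : T.left.Opens) : EtSpOver X :=
  ⟨Over.mk (Y := (AlgSp.ofScheme S).obj (Groth.Agent.H51.overOpen T O))
    (ObjectProperty.homMk ((yon S).map (Groth.Agent.H51.overOpenι T O) ≫ a)),
    AlgSp.isEtaleMor_of_repWith _ (Groth.Agent.H51.repWith_etale_restrict a ha O)⟩

/-- The inclusion of opens over `S`. -/
noncomputable def overHomOfLE (T : Over S) {O₁ O₂ : T.left.Opens} (h : O₁ ≤ O₂) :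
    Groth.Agent.H51.overOpen T O₁ ⟶ Groth.Agent.H51.overOpen T O₂ :=
  Over.homMk (T.left.homOfLE h) (by
    change T.left.homOfLE h ≫ O₂.ι ≫ T.hom = O₁.ι ≫ T.hom
    rw [← Category.assoc, Scheme.homOfLE_ι])

theorem overHomOfLE_ι (T : Over S) {O₁ O₂ : T.left.Opens} (h : O₁ ≤ O₂) :
    overHomOfLE T h ≫ Groth.Agent.H51.overOpenι T O₂ = Groth.Agent.H51.overOpenι T O₁ := by
  ext : 1
  exact Scheme.homOfLE_ι _ h

/-- The morphism of `EtSpOver X` given by an inclusion of opens of a chart. -/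
noncomputable def openHom (T : Over S) (a : (yon S).obj T ⟶ X.obj) (ha : RepWith @Etale a)
    {O₁ O₂ : T.left.Opens} (h : O₁ ≤ O₂) : openObj T a ha O₁ ⟶ openObj T a ha O₂ :=
  ObjectProperty.homMk (Over.homMk ((AlgSp.ofScheme S).map (overHomOfLE T h)) (by
    apply ObjectProperty.hom_ext
    change (yon S).map (overHomOfLE T h) ≫ (yon S).map (Groth.Agent.H51.overOpenι T O₂) ≫ a =
      (yon S).map (Groth.Agent.H51.overOpenι T O₁) ≫ a
    rw [← Category.assoc, ← Functor.map_comp, overHomOfLE_ι]))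

theorem openHom_hom (T : Over S) (a : (yon S).obj T ⟶ X.obj) (ha : RepWith @Etale a)
    {O₁ O₂ : T.left.Opens} (h : O₁ ≤ O₂) :
    (openHom T a ha h).hom.left.hom = (yon S).map (overHomOfLE T h) := rfl

/-- The pullback square of opens, in sheaves. -/
theorem isPullback_yon_opens (T : Over S) {O₁ O₂ O O' : T.left.Opens} (h₁ : O₁ ≤ O) (h₂ : O₂ ≤ O)
    (h'₁ : O' ≤ O₁) (h'₂ : O' ≤ O₂) (hO' : O' = O₁ ⊓ O₂) :
    IsPullback ((yon S).map (overHomOfLE T h'₁)) ((yon S).map (overHomOfLE T h'₂))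
      ((yon S).map (overHomOfLE T h₁)) ((yon S).map (overHomOfLE T h₂)) := by
  subst hO'
  have sqSch := isPullback_opens_inf_le h₁ h₂
  have sqS : IsPullback (overHomOfLE T h'₁) (overHomOfLE T h'₂) (overHomOfLE T h₁)
      (overHomOfLE T h₂) := by
    refine IsPullback.of_map (Over.forget S) ?_ sqSch
    ext : 1
    exact sqSch.w
  exact sqS.map (yon S)

theorem repWith_isOpenImmersion_overHomOfLE (T : Over S) {O₁ O₂ : T.left.Opens} (h : O₁ ≤ O₂) :
    RepWith @IsOpenImmersion ((yon S).map (overHomOfLE T h)) :=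
  (repWith_yon_map_iff _ _).2 (show IsOpenImmersion (T.left.homOfLE h) from inferInstance)

/-- Zariski squares are elementary distinguished. -/
theorem isElemDistSq_opens (T : Over S) {O₁ O₂ O : T.left.Opens} (h₁ : O₁ ≤ O) (h₂ : O₂ ≤ O)
    (hO : O ≤ O₁ ⊔ O₂) :
    IsElemDistSq ((yon S).map (overHomOfLE T h₁)) ((yon S).map (overHomOfLE T h₂)) := by
  have hoi₂ := repWith_isOpenImmersion_overHomOfLE T h₂
  have hm₂ : Mono ((yon S).map (overHomOfLE T h₂)) := mono_of_isOpenImmersion _ hoi₂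
  refine isElemDistSq_of_fieldInjOff (IsAlgSpace.yon_obj _) (IsAlgSpace.yon_obj _) _ _
    (repWith_isOpenImmersion_overHomOfLE T h₁)
    ((isEtaleMor_yon_map_iff _).2 (show Etale (T.left.homOfLE h₂) from inferInstance)) ?_ ?_
  · intro x hx
    obtain ⟨t, rfl⟩ := (Points.schemeHomeo (Groth.Agent.H51.overOpen T O)).surjective x
    have ht : (O.ι t : ↥T.left) ∈ O₁ ⊔ O₂ := hO (show (O.ι t : ↥T.left) ∈ (O : Set ↥T.left) from (by rw [← Scheme.Opens.range_ι O]; exact ⟨t, rfl⟩))
    rcases ht with ht | ht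
    · exfalso
      apply hx
      let t₁ : ↥(Groth.Agent.H51.overOpen T O₁).left := (⟨O.ι t, ht⟩ : ↥O₁)
      refine ⟨Points.schemeHomeo (Groth.Agent.H51.overOpen T O₁) t₁, ?_⟩
      rw [Points.map_yon_map_apply]
      congr 1
      apply O.ι.isOpenEmbedding.injective
      change (T.left.homOfLE h₁ ≫ O.ι) t₁ = O.ι t
      rw [Scheme.homOfLE_ι]
      rfl
    · let t₂ : ↥(Groth.Agent.H51.overOpen T O₂).left := (⟨O.ι t, ht⟩ : ↥O₂)
      refine ⟨Points.schemeHomeo (Groth.Agent.H51.overOpen T O₂) t₂, ?_⟩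
      rw [Points.map_yon_map_apply]
      congr 1
      apply O.ι.isOpenEmbedding.injective
      change (T.left.homOfLE h₂ ≫ O.ι) t₂ = O.ι t
      rw [Scheme.homOfLE_ι]
      rfl
  · intro K _ str x y hxy _
    exact (cancel_mono _).1 hxy

end Groth.Agent.H53.Induct
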