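import Groth.Agent.H53.Induct.ElemCrit
import Groth.Agent.H53.LargestOpen
import Groth.Agent.H53.Charts
import Groth.Agent.H51.SpUnram
import Groth.Agent.H50.ImmFactor

/-!
# One step of the induction principle

Given open subspaces `W₁ ⊂ W₂` of `X` and an etale chart `φ : h_T ⟶ X` with
`|W₂| = |W₁| ∪ im φ` that is injective on field points outside `W₁`, the pair
`(W₁ ⊂ W₂, h_T → W₂)` is an elementary distinguished square.
-/

set_option autoImplicit false
universe u
open CategoryTheory CategoryTheory.Limits AlgebraicGeometry Opposite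
open AlgSp

namespace Groth.Agent.H53.Induct

variable {S : Scheme.{u}}

theorem range_map_eq_range_ofPt {F : Sp S} {T : Over S} (φ : (yon S).obj T ⟶ F) :
    Set.range (Points.map φ) = Set.range (Points.ofPt φ) := by
  ext x
  constructor
  · rintro ⟨y, rfl⟩
    refine ⟨Points.toScheme T y, ?_⟩
    rw [Points.ofPt_eq_map_ofScheme, Points.ofScheme_toScheme]
  · rintro ⟨t, rfl⟩
    exact ⟨Points.ofScheme T t, (Points.ofPt_eq_map_ofScheme φ t).symm⟩

theorem mk_fieldPtOfHom_comp_eq_map {F G : Sp S} (g : F ⟶ G) (K : Type u) [Field K]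
    (str : Spec (.of K) ⟶ S) (a : (yon S).obj (Over.mk str) ⟶ F) :
    Points.mk (fieldPtOfHom K str (a ≫ g)) = Points.map g (Points.mk (fieldPtOfHom K str a)) := by
  rw [Points.map_mk, fieldPtOfHom_map]

/-- The step. -/
theorem step_exists {X W₁ W₂ : Sp S} (hW₂ : IsAlgSpace W₂)
    (j₁ : W₁ ⟶ X) (j₂ : W₂ ⟶ X)
    (hj₁ : RepWith @IsOpenImmersion j₁) (hj₂ : RepWith @IsOpenImmersion j₂)
    {T : Over S} (φ : (yon S).obj T ⟶ X) (hφ : RepWith @Etale φ)
    (hrange : Set.range (Points.map j₂) = Set.range (Points.map j₁) ∪ Set.range (Points.map φ))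
    (hinj : FieldInjOff φ (Set.range (Points.map j₁))) :
    ∃ (k : W₁ ⟶ W₂) (f : (yon S).obj T ⟶ W₂), k ≫ j₂ = j₁ ∧ f ≫ j₂ = φ ∧ IsElemDistSq k f := by
  have hm₂ : Mono j₂ := mono_of_isOpenImmersion j₂ hj₂
  have hinj₂ : Function.Injective (Points.map j₂) := Groth.Agent.H51.injective_map_of_mono j₂
  obtain ⟨k, hk⟩ := (Groth.Agent.H51.exists_factor_iff_of_isOpenImmersion' j₂ hj₂ j₁).2 (by
    rw [hrange]; exact Set.subset_union_left)
  obtain ⟨f, hf⟩ := (Groth.Agent.H51.exists_factor_iff_of_isOpenImmersion' j₂ hj₂ φ).2 (by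
    rw [hrange]; exact Set.subset_union_right)
  refine ⟨k, f, hk, hf, ?_⟩
  have hkoi : RepWith @IsOpenImmersion k :=
    Groth.Agent.H51.repWith_of_comp_mono k j₂ (by rw [hk]; exact hj₁)
  have hfet : RepWith @Etale f :=
    Groth.Agent.H51.repWith_of_comp_mono f j₂ (by rw [hf]; exact hφ)
  have hfE : IsEtaleMor f := Groth.Agent.H51.isEtaleMor_of_repWith_etale hfet
  refine isElemDistSq_of_fieldInjOff (IsAlgSpace.yon_obj T) hW₂ k f hkoi hfE ?_ ?_
  · intro x hx
    have hx2 : Points.map j₂ x ∈ Set.range (Points.map j₁) ∪ Set.range (Points.map φ) := by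
      rw [← hrange]; exact ⟨x, rfl⟩
    rcases hx2 with ⟨y, hy⟩ | ⟨v, hv⟩
    · exfalso
      apply hx
      refine ⟨y, hinj₂ ?_⟩
      rw [← Points.map_comp, hk, hy]
    · refine ⟨v, hinj₂ ?_⟩
      rw [← Points.map_comp, hf, hv]
  · intro K _ str a b hab hout
    apply hinj K str a b
    · rw [← hf, ← Category.assoc, ← Category.assoc, hab]
    · rintro ⟨y, hy⟩
      apply hout
      refine ⟨y, hinj₂ ?_⟩
      rw [← Points.map_comp, hk, hy, ← mk_fieldPtOfHom_comp_eq_map, Category.assoc, hf]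

/-- No field-valued points on an empty scheme. -/
theorem fieldInjOff_of_isEmpty {F : Sp S} {T : Over S} [IsEmpty ↥T.left] (φ : (yon S).obj T ⟶ F)
    (O : Set (Points F)) : FieldInjOff φ O := by
  intro K _ str a b _ _
  obtain ⟨a', rfl⟩ := (yon S).map_surjective a
  exact (IsEmpty.false (a'.left (IsLocalRing.closedPoint K))).elim

theorem range_map_eq_empty_of_isEmpty {F : Sp S} {T : Over S} [IsEmpty ↥T.left]
    (φ : (yon S).obj T ⟶ F) : Set.range (Points.map φ) = ∅ := by
  rw [range_map_eq_range_ofPt]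
  exact Set.range_eq_empty _

/-- An etale chart from an empty scheme is an open immersion. -/
theorem repWith_isOpenImmersion_of_isEmpty {F : Sp S} (hF : IsAlgSpace F) {T : Over S}
    [IsEmpty ↥T.left] (φ : (yon S).obj T ⟶ F) (hφ : RepWith @Etale φ) :
    RepWith @IsOpenImmersion φ := by
  have hui : IsUnivInjectiveMor φ := by
    apply Groth.Agent.H50.isUnivInjectiveMor_of_field_injective
    intro K _ str a b _
    obtain ⟨a', rfl⟩ := (yon S).map_surjective a
    exact (IsEmpty.false (a'.left (IsLocalRing.closedPoint K))).elim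
  exact Groth.Agent.H51.s10261 (X := ⟨(yon S).obj T, IsAlgSpace.yon_obj T⟩) (Y := ⟨F, hF⟩)
    (ObjectProperty.homMk φ) (Groth.Agent.H51.isEtaleMor_of_repWith_etale hφ) hui

/-- An empty etale chart of an algebraic space. -/
theorem exists_empty_chart {F : Sp S} (hF : IsAlgSpace F) :
    ∃ (T : Over S) (_ : IsEmpty ↥T.left) (φ : (yon S).obj T ⟶ F), RepWith @Etale φ := by
  obtain ⟨U, p, hp, -⟩ := hF.atlas
  refine ⟨Over.mk ((⊥ : U.left.Opens).ι ≫ U.hom), ?_,
    (yon S).map (Over.homMk (⊥ : U.left.Opens).ι rfl : Over.mk ((⊥ : U.left.Opens).ι ≫ U.hom) ⟶ U) ≫ p,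
    repWith_etale_map_comp _ (by
      change Etale (⊥ : U.left.Opens).ι
      infer_instance) p hp⟩
  change IsEmpty ↥((⊥ : U.left.Opens) : Scheme)
  exact ⟨fun x => False.elim x.2⟩

end Groth.Agent.H53.Induct
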